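import Cfsg.Agent.H0.EM23X.D
set_option maxRecDepth 100000
set_option Elab.async false
set_option linter.unusedSectionVars false
namespace H0.EM23X
open H0 BN 
instance fin : Finite (gen R.p (lets 44)) := gen_fin _ _
noncomputable def m := tm R 44 R_ge
theorem mR : m.R = R := rfl
theorem ch_ok : m.ChainOK ch [] := (m.chain_cons [0] (Model.via _ mR (fun R => Model.fixP R [] [[20]]) c20) (Model.via _ mR (fun R => Model.growP R [[20]] [0] 0 2) c21) (m.chain_cons [0] (Model.via _ mR (fun R => Model.fixP R [0] [[23]]) c18) (Model.via _ mR (fun R => Model.growP R [[23]] [0] 2 2) c19) (m.chain_cons [0] (Model.via _ mR (fun R => Model.fixP R [2, 0] [[28]]) c16) (Model.via _ mR (fun R => Model.growP R [[28]] [0] 4 2) c17) (m.chain_cons [0] (Model.via _ mR (fun R => Model.fixP R [4, 2, 0] [[22, 24]]) c14) (Model.via _ mR (fun R => Model.growP R [[22, 24]] [0] 6 2) c15) (m.chain_cons [0] (Model.via _ mR (fun R => Model.fixP R [6, 4, 2, 0] [[23, 25]]) c12) (Model.via _ mR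 (fun R => Model.growP R [[23, 25]] [0] 10 2) c13) (m.chain_cons [0] (Model.via _ mR (fun R => Model.fixP R [10, 6, 4, 2, 0] [[20, 24, 25]]) c10) (Model.via _ mR (fun R => Model.growP R [[20, 24, 25]] [0] 26 2) c11) (m.chain_cons [0] (Model.via _ mR (fun R => Model.fixP R [26, 10, 6, 4, 2, 0] [[21, 25, 26]]) c8) (Model.via _ mR (fun R => Model.growP R [[21, 25, 26]] [0] 58 2) c9) (m.chain_cons [0] (Model.via _ mR (fun R => Model.fixP R [58, 26, 10, 6, 4, 2, 0] [[22, 26, 27]]) c6) (Model.via _ mR (fun R => Model.growP R [[22, 26, 27]] [0] 122 2) c7) (m.chain_cons [0] (Model.via _ mR (fun R => Model.fixP R [122, 58, 26, 10, 6, 4, 2, 0] [[23, 27, 28]]) c4) (Model.via _ mR (fun R => Model.growP R [[23, 27, 28]] [0] 250 2) c5) (m.chain_cons [0] (Model.via _ mR (fun R => Model.fixP R [250, 122, 58, 26, 10, 6, 4, 2, 0] [[21, 22, 24, 30]]) c2) (Model.via _ mR (fun R => Model.growP R [[21, 22, 24, 30]] [0] 8 2) c3) (m.chain_cons [0] (Model.via _ mR (fun R => Model.fixP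 R [8, 250, 122, 58, 26, 10, 6, 4, 2, 0] [[23, 26, 27, 28, 29, 30]]) c0) (Model.via _ mR (fun R => Model.growP R [[23, 26, 27, 28, 29, 30]] [0] 12 2) c1) (m.chain_nil _))))))))))))
theorem hE : ∀ e ∈ (M23X.EE ts Ws QL [3, 7, 14] [3, 12] [1, 3, 4, 6, 8] [1, 3, 4, 8, 10]), ev R.p e.1 = ev R.p e.2 := (all_take_done (all_take_step (all_take_zero _ (M23X.EE ts Ws QL [3, 7, 14] [3, 12] [1, 3, 4, 6, 8] [1, 3, 4, 8, 10])) (pw_done R (pw_step R (pw_zero R (((M23X.EE ts Ws QL [3, 7, 14] [3, 12] [1, 3, 4, 6, 8] [1, 3, 4, 8, 10]).drop 0).take 1197)) c22))) (by decide +kernel))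
theorem low : 2048 ≤ Nat.card (gl m.g M23X.ds) :=
  (by decide +kernel : _ ≤ Model.cprod ch).trans (m.chain_card ch_ok (gen_le fun w hw => mem_gl _ (List.all_eq_true.1 (by decide +kernel : (Model.cgens ch).all (·.all M23X.ds.contains) = true) w hw)))
def res := M23X.main (tm_top R 44 R_ge) (fun e he => Subtype.ext ((m.φ_ev _).trans ((hE e he).trans (m.φ_ev _).symm))) (by decide +kernel) (by decide +kernel) low
  (j := 1) (by decide) (neP_of m (b := 2) (by decide +kernel)) (c1 := H6.decW 0x5335f) (c2 := H6.decW 0x471a97) (by decide +kernel) (by decide +kernel) (by decide +kernel) (by decide +kernel)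
end H0.EM23X
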